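import Groth.Agent.H17.LocImmCommon
import Groth.Agent.H17.LocImmNhd
import Groth.Agent.H26Blow.Exists
import Groth.Agent.H26Blow.Proper
import Groth.Agent.H11Strict.BlowComp
import Groth.Agent.H11Strict.ClosedImm
import Groth.Agent.S17381
import Groth.Agent.S18195
import Groth.Agent.S18202
import Groth.Agent.S18204
import Groth.Agent.S1680

/-!
# Admissible blow-ups of Noetherian schemes around opens mapping by open immersions
-/

set_option autoImplicit false
set_option linter.style.haveILetI false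

universe u

open CategoryTheory CategoryTheory.Limits AlgebraicGeometry TopologicalSpace

namespace Groth.Agent.H17.LocImmBlow

open LocImm

variable {X Y Z G : Scheme.{u}}

theorem isFiniteTypeIdeal [IsLocallyNoetherian X] (I : X.IdealSheafData) : BlowUp.IsFiniteTypeIdeal I := fun U =>
  haveI := IsLocallyNoetherian.component_noetherian U
  IsNoetherian.noetherian _

/-- Complements of effective Cartier divisors are dense. -/
theorem dense_compl {E : X.IdealSheafData} (hE : BlowUp.IsEffCartierIdeal E) :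
    Dense ((E.support.compl : X.Opens) : Set X) := by
  haveI := H11Strict.isAffineHom_compl hE
  have h := congrArg (fun I : X.IdealSheafData => (I.support : Set X)) (H11Strict.ker_ι_compl hE)
  simp only [Scheme.Hom.support_ker, Scheme.Opens.range_ι] at h
  rw [dense_iff_closure_eq]
  simpa using h

/-- The preimage of the complement of the centre is dense. -/
theorem dense_preimage_compl {I : X.IdealSheafData} {b : Y ⟶ X} (hb : BlowUp.IsBlowUp b I) :
    Dense ((b ⁻¹ᵁ I.support.compl : Y.Opens) : Set Y) := by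
  have h := dense_compl hb.1
  convert h using 1
  ext y
  simp [Scheme.IdealSheafData.support_comap]

/-- Preimages of dense sets are dense. -/
theorem dense_preimage {I : X.IdealSheafData} {b : Y ⟶ X} (hb : BlowUp.IsBlowUp b I) {O : Set X}
    (hO : Dense O) : Dense ((fun y => b y) ⁻¹' O) := by
  let W : X.Opens := I.support.compl
  haveI : IsIso (b ∣_ W) := H29Blow.isIso_morphismRestrict hb W fun x hx => hx
  refine dense_iff_inter_open.2 fun A hA hne => ?_
  obtain ⟨y, hyA, hyW⟩ := dense_iff_inter_open.1 (dense_preimage_compl hb) A hA hne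
  let g : (b ⁻¹ᵁ W : Scheme.{u}) ⟶ X := (b ∣_ W) ≫ W.ι
  have hop : IsOpen (g '' ((b ⁻¹ᵁ W).ι ⁻¹' A)) := g.isOpenEmbedding.isOpenMap _ (hA.preimage (b ⁻¹ᵁ W).ι.continuous)
  obtain ⟨_, ⟨v, hvA, rfl⟩, hvO⟩ := dense_iff_inter_open.1 hO _ hop ⟨_, ⟨⟨y, hyW⟩, hyA, rfl⟩⟩
  refine ⟨(b ⁻¹ᵁ W).ι v, hvA, ?_⟩
  have e : g v = b ((b ⁻¹ᵁ W).ι v) := by
    simp only [g, morphismRestrict_ι]
    rfl
  show b ((b ⁻¹ᵁ W).ι v) ∈ O
  exact e ▸ hvO

/-- A blow-up is injective over the complement of its centre. -/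
theorem eq_of_apply_eq {I : X.IdealSheafData} {b : Y ⟶ X} (hb : BlowUp.IsBlowUp b I) {x y : Y}
    (h : b x = b y) (hy : b y ∉ I.support) : x = y := by
  let W : X.Opens := I.support.compl
  haveI : IsIso (b ∣_ W) := H29Blow.isIso_morphismRestrict hb W fun x hx => hx
  let g : (b ⁻¹ᵁ W : Scheme.{u}) ⟶ X := (b ∣_ W) ≫ W.ι
  have e : ∀ v, g v = b ((b ⁻¹ᵁ W).ι v) := fun v => by
    simp only [g, morphismRestrict_ι]
    rfl
  have hx : b x ∈ W := by rw [h]; exact hy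
  exact congrArg Subtype.val (g.isOpenEmbedding.injective ((e ⟨x, hx⟩).trans (h.trans (e ⟨y, hy⟩).symm)))

/-- A morphism missing the centre lifts uniquely to the blow-up. -/
theorem exists_lift {I : X.IdealSheafData} {b : Y ⟶ X} (hb : BlowUp.IsBlowUp b I) (g : Z ⟶ X)
    (hg : ∀ z, g z ∉ I.support) : ∃! e : Z ⟶ Y, e ≫ b = g :=
  hb.2 Z g (by rw [H29Blow.comap_eq_top_of_range_disjoint g I hg]; exact H29Blow.isEffCartierIdeal_top)

theorem lift_unique {I : X.IdealSheafData} {b : Y ⟶ X} (hb : BlowUp.IsBlowUp b I) {e₁ e₂ : Z ⟶ Y}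
    (h : e₁ ≫ b = e₂ ≫ b) (hg : ∀ z, (e₂ ≫ b) z ∉ I.support) : e₁ = e₂ := by
  obtain ⟨e, -, hu⟩ := exists_lift hb (e₂ ≫ b) hg
  exact (hu e₁ h).trans (hu e₂ rfl).symm

theorem isProper [IsLocallyNoetherian X] {I : X.IdealSheafData} {b : Y ⟶ X} (hb : BlowUp.IsBlowUp b I) :
    IsProper b :=
  Groth.Agent.H26Blow.isProper_of_isBlowUp hb fun x => by
    obtain ⟨U, hU, hxU, -⟩ := exists_isAffineOpen_mem_and_subset (U := ⊤) (x := x) trivial
    exact ⟨⟨U, hU⟩, hxU, isFiniteTypeIdeal I _⟩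

theorem isNoetherian_of_isBlowUp [IsNoetherian X] {I : X.IdealSheafData} {b : Y ⟶ X} (hb : BlowUp.IsBlowUp b I) :
    IsNoetherian Y :=
  haveI := isProper hb
  LocImmCommon.isNoetherian_of_locallyOfFiniteType b

/-- A separated morphism which is an open immersion on a dense open has no other point over its image. -/
theorem preimage_opensRange (p : G ⟶ Z) [IsSeparated p] (U : G.Opens) [IsOpenImmersion (U.ι ≫ p)]
    (hU : Dense (U : Set G)) : p ⁻¹ᵁ (U.ι ≫ p).opensRange = U := by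
  let V := (U.ι ≫ p).opensRange
  have hle : U ≤ p ⁻¹ᵁ V := fun y hy => ⟨⟨y, hy⟩, rfl⟩
  let i : (U : Scheme.{u}) ⟶ (p ⁻¹ᵁ V : G.Opens) := G.homOfLE hle
  have hi : i ≫ (p ∣_ V) = (U.ι ≫ p).isoOpensRange.hom := by
    rw [← cancel_mono V.ι, Category.assoc, morphismRestrict_ι, Scheme.homOfLE_ι_assoc, Scheme.Hom.isoOpensRange_hom_ι]
  haveI : IsSeparated (p ∣_ V) := IsZariskiLocalAtTarget.restrict (P := @IsSeparated) inferInstance V
  haveI : IsClosedImmersion (i ≫ (p ∣_ V)) := by rw [hi]; infer_instance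
  haveI : IsClosedImmersion i := IsClosedImmersion.of_comp i (p ∣_ V)
  have hcl := i.isClosedEmbedding.isClosed_range
  refine le_antisymm (fun y hy => ?_) hle
  have hιi : ∀ w, (p ⁻¹ᵁ V).ι (i w) = U.ι w := fun w => by
    rw [← Scheme.Hom.comp_apply]; simp [i]
  have hd : Dense (Set.range i) := by
    rw [show Set.range i = (p ⁻¹ᵁ V).ι ⁻¹' (U : Set G) from by
      ext z
      constructor
      · rintro ⟨w, rfl⟩
        show (p ⁻¹ᵁ V).ι (i w) ∈ U
        rw [hιi]; exact w.2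
      · exact fun hz => ⟨⟨_, hz⟩, (p ⁻¹ᵁ V).ι.isOpenEmbedding.injective (hιi _)⟩]
    exact hU.preimage (p ⁻¹ᵁ V).ι.isOpenEmbedding.isOpenMap
  obtain ⟨w, hw⟩ : (⟨y, hy⟩ : (p ⁻¹ᵁ V : Scheme.{u})) ∈ Set.range i := by
    rw [← hcl.closure_eq, hd.closure_eq]; trivial
  have h : (p ⁻¹ᵁ V).ι ⟨y, hy⟩ = U.ι w := by rw [← hw, hιi]
  exact (show y = U.ι w from h) ▸ w.2

/-- ... and it is an isomorphism over this image. -/
theorem isIso_morphismRestrict (p : G ⟶ Z) [IsSeparated p] (U : G.Opens) [IsOpenImmersion (U.ι ≫ p)]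
    (hU : Dense (U : Set G)) : IsIso (p ∣_ (U.ι ≫ p).opensRange) := by
  have e := preimage_opensRange p U hU
  let V := (U.ι ≫ p).opensRange
  have : p ∣_ V = (G.isoOfEq e).hom ≫ (U.ι ≫ p).isoOpensRange.hom := by
    rw [← cancel_mono V.ι, morphismRestrict_ι, Category.assoc, Scheme.Hom.isoOpensRange_hom_ι,
      Scheme.isoOfEq_hom_ι_assoc]
  rw [show p ∣_ (U.ι ≫ p).opensRange = _ from this]
  infer_instance

/-- After admissible blow-ups a proper morphism which is an open immersion on an open is an isomorphism. -/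
theorem main [IsNoetherian G] [IsNoetherian Z] (p : G ⟶ Z) [IsProper p] (U : G.Opens) [IsOpenImmersion (U.ι ≫ p)] :
    ∃ (W : Scheme.{u}) (b : W ⟶ G) (I : G.IdealSheafData) (J : Z.IdealSheafData), IsNoetherian W ∧
      BlowUp.IsBlowUp b I ∧ Disjoint (I.support : Set G) (U : Set G) ∧
      BlowUp.IsBlowUp (b ≫ p) J ∧ Disjoint (J.support : Set Z) ((fun x => p x) '' (U : Set G)) := by
  let V := (U.ι ≫ p).opensRange
  have hVU : ∀ y ∈ U, p y ∈ V := fun y hy => ⟨⟨y, hy⟩, rfl⟩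
  let J₀ := Scheme.IdealSheafData.vanishingIdeal V.compl
  let I₀ := J₀.comap p * Scheme.IdealSheafData.vanishingIdeal U.compl
  have hI₀ : ∀ y, y ∈ I₀.support ↔ y ∉ U := fun y => by
    have e : (I₀.support : Set G) = p ⁻¹' (V : Set Z)ᶜ ∪ (U : Set G)ᶜ := by
      simp only [I₀, J₀, Scheme.IdealSheafData.support_mul, Scheme.IdealSheafData.support_comap, Closeds.coe_sup,
        Closeds.coe_preimage, Scheme.IdealSheafData.coe_support_vanishingIdeal, Opens.coe_compl]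
    show y ∈ (I₀.support : Set G) ↔ _
    rw [e]
    exact ⟨fun h hy => h.elim (fun h => h (hVU y hy)) (fun h => h hy), fun hy => Or.inr hy⟩
  have hJ₀ : ∀ z, z ∈ J₀.support ↔ z ∉ V := fun z => by
    show z ∈ (J₀.support : Set Z) ↔ _
    simp only [J₀, Scheme.IdealSheafData.coe_support_vanishingIdeal]
    exact Iff.rfl
  obtain ⟨Z₁, c₀, hc₀⟩ := H26Blow.exists_isBlowUp J₀
  obtain ⟨G₁, b₀, hb₀⟩ := H26Blow.exists_isBlowUp I₀
  have hcart : BlowUp.IsEffCartierIdeal (J₀.comap (b₀ ≫ p)) := by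
    rw [Scheme.IdealSheafData.comap_comp]
    have h := hb₀.1
    simp only [I₀, H29Blow.comap_mul] at h
    exact H29Blow.isEffCartierIdeal_left_of_mul h
  obtain ⟨p₁, hp₁, -⟩ := hc₀.2 G₁ (b₀ ≫ p) hcart
  haveI := isNoetherian_of_isBlowUp hb₀
  haveI := isNoetherian_of_isBlowUp hc₀
  haveI := isProper hb₀
  haveI := isProper hc₀
  haveI : IsProper (p₁ ≫ c₀) := by rw [hp₁]; infer_instance
  haveI : IsProper p₁ := IsProper.of_comp p₁ c₀
  let O : G₁.Opens := b₀ ⁻¹ᵁ U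
  have hO : Dense (O : Set G₁) := by
    convert dense_preimage_compl hb₀ using 1
    ext y
    simp [O, hI₀]
  let V₁ : Z₁.Opens := c₀ ⁻¹ᵁ V
  have hV₁ : Dense (V₁ : Set Z₁) := by
    convert dense_preimage_compl hc₀ using 1
    ext y
    simp [V₁, hJ₀]
  haveI : IsIso (b₀ ∣_ U) := H29Blow.isIso_morphismRestrict hb₀ U fun x hx h => (hI₀ x).1 h hx
  haveI : IsIso (c₀ ∣_ V) := H29Blow.isIso_morphismRestrict hc₀ V fun x hx h => (hJ₀ x).1 h hx
  have hle : O ≤ p₁ ⁻¹ᵁ V₁ := fun y hy => by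
    show c₀ (p₁ y) ∈ V
    rw [← Scheme.Hom.comp_apply, hp₁, Scheme.Hom.comp_apply]
    exact hVU _ hy
  haveI hopen : IsOpenImmersion (O.ι ≫ p₁) := by
    let l : (O : Scheme.{u}) ⟶ V₁ := G₁.homOfLE hle ≫ (p₁ ∣_ V₁)
    have hl : l ≫ V₁.ι = O.ι ≫ p₁ := by simp [l, morphismRestrict_ι]
    haveI : IsOpenImmersion (l ≫ V₁.ι ≫ c₀) := by
      rw [← Category.assoc, hl, Category.assoc, hp₁, ← morphismRestrict_ι_assoc]
      infer_instance
    haveI : IsOpenImmersion (V₁.ι ≫ c₀) := by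
      rw [← morphismRestrict_ι]
      infer_instance
    haveI : IsOpenImmersion l := IsOpenImmersion.of_comp l (V₁.ι ≫ c₀)
    rw [← hl]
    infer_instance
  have hrange : (O.ι ≫ p₁).opensRange = V₁ := by
    refine le_antisymm ?_ fun z (hz : c₀ z ∈ V) => ?_
    · rintro _ ⟨o, rfl⟩
      exact hle o.2
    · obtain ⟨u, hu⟩ : c₀ z ∈ (U.ι ≫ p).opensRange := id hz
      obtain ⟨o, ho⟩ := (TopCat.homeoOfIso (asIso (b₀ ∣_ U).base)).surjective u
      refine ⟨o, ?_⟩
      have hinj : Function.Injective ((c₀ ∣_ V) ≫ V.ι) := ((c₀ ∣_ V) ≫ V.ι).isOpenEmbedding.injective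
      have h1 : ((c₀ ∣_ V) ≫ V.ι) ⟨(O.ι ≫ p₁) o, hle o.2⟩ = ((c₀ ∣_ V) ≫ V.ι) ⟨z, hz⟩ := by
        simp only [morphismRestrict_ι]
        show c₀ (p₁ (O.ι o)) = c₀ z
        rw [← hu, ← Scheme.Hom.comp_apply p₁, hp₁]
        show p (b₀ (O.ι o)) = p (U.ι u)
        rw [← ho]
        exact congrArg p (congr($(morphismRestrict_ι b₀ U) o)).symm
      exact congrArg Subtype.val (hinj h1)
  haveI : IsIso (p₁ ∣_ V₁) := hrange ▸ isIso_morphismRestrict p₁ O hO
  have hpre : p₁ ⁻¹ᵁ V₁ = O := hrange ▸ preimage_opensRange p₁ O hO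
  obtain ⟨I₁, J₁, W, b₁, hb₁, hI₁, hJ₁b, hJ₁⟩ := Groth.Agent.S17381.result p₁ V₁ (NoetherianSpace.isCompact _) hV₁ (hpre ▸ hO)
  obtain ⟨I, -, hI, hb⟩ := H11Strict.exists_isBlowUp_comp I₀ (isFiniteTypeIdeal _) b₀ hb₀ I₁ hI₁.1 b₁ hb₁
  obtain ⟨J, -, hJ, hc⟩ := H11Strict.exists_isBlowUp_comp J₀ (isFiniteTypeIdeal _) c₀ hc₀ J₁ hJ₁.1 (b₁ ≫ p₁) hJ₁b
  refine ⟨W, b₁ ≫ b₀, I, J, isNoetherian_of_isBlowUp hb₁, hb, ?_, ?_, ?_⟩
  · rw [hI]
    refine Set.disjoint_left.2 ?_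
    rintro x (hx | ⟨y, hy, rfl⟩) hxU
    · exact (hI₀ x).1 hx hxU
    · exact Set.disjoint_left.1 hI₁.2 hy (by rw [hpre]; exact hxU)
  · rw [Category.assoc, ← hp₁, ← Category.assoc]
    exact hc
  · rw [hJ]
    refine Set.disjoint_left.2 ?_
    rintro x (hx | ⟨y, hy, rfl⟩) ⟨v, hv, hvx⟩
    · exact (hJ₀ x).1 hx ((show p v = x from hvx) ▸ hVU v hv)
    · exact Set.disjoint_left.1 hJ₁.2 hy (show c₀ y ∈ V from (show p v = c₀ y from hvx) ▸ hVU v hv)

/-- The scheme-theoretic image of a lift of a localizing immersion. -/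
theorem exists_open_of_dominant [IsNoetherian X] [IsNoetherian Y] [IsNoetherian G] (γ : X ⟶ G) (p : G ⟶ Y)
    [IsSeparated p] [LocallyOfFiniteType p] (h : IsLocImmersion (γ ≫ p))
    (hγ : ∀ U : G.Opens, Function.Injective (γ.app U).hom) :
    IsLocImmersion γ ∧ ∃ U : G.Opens, Set.range γ ⊆ (U : Set G) ∧ IsOpenImmersion (U.ι ≫ p) := by
  haveI := LocImmCommon.locallyEssFiniteType_of_locallyOfFiniteType p
  have hl := Groth.Agent.S18195.result γ p h hγ
  obtain ⟨U, hU, hU'⟩ := LocImmNhd.exists_open_isLocImmersion γ (γ ≫ p) p hl h rfl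
  haveI := LocImmNhd.isNoetherian_opens U
  haveI : LocallyOfFiniteType (U.ι ≫ p) := inferInstance
  exact ⟨hl, U, hU, Groth.Agent.S18204.result _ hU'⟩

theorem flat_of_isLocImmersion {f : X ⟶ Y} (hf : IsLocalizing f) : Flat f :=
  Flat.of_stalkMap f fun x =>
    haveI := LocIm.isIso_stalkMap hf x
    RingHom.Flat.of_bijective (ConcreteCategory.bijective_of_isIso (f.stalkMap x))

/-- Blow-ups pulled back along localizing immersions. -/
theorem pullback_blowUp [IsNoetherian X] [IsNoetherian Y] {W : Scheme.{u}} [IsNoetherian W] {k : X ⟶ Y}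
    (hk : IsLocImmersion k) {I : Y.IdealSheafData} {b : W ⟶ Y} (hb : BlowUp.IsBlowUp b I) :
    BlowUp.IsBlowUp (pullback.fst k b) (I.comap k) ∧ IsLocImmersion (pullback.snd k b) :=
  haveI := flat_of_isLocImmersion hk.1
  ⟨Groth.Agent.S1680.result k I b hb, Groth.Agent.S18202.result k b hk⟩

end Groth.Agent.H17.LocImmBlow
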