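import Groth.Agent.H17.LocImmBlow.Core
import Groth.Agent.S1274
import Groth.Agent.S18198

/-!
# Common blow-ups and extension of maps after admissible blow-ups
-/

set_option autoImplicit false
set_option linter.style.haveILetI false

universe u

open CategoryTheory CategoryTheory.Limits AlgebraicGeometry TopologicalSpace

namespace Groth.Agent.H17.LocImmBlow

open LocImm

variable {S U W Y X Z : Scheme.{u}}

/-- The scheme-theoretic image of a graph with a localizing projection. -/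
theorem exists_graph [IsNoetherian U] [IsNoetherian W] (r : W ⟶ S) (p : Y ⟶ S) [IsProper p]
    (w : U ⟶ W) (k : U ⟶ Y) (hw : IsLocImmersion w) (h : w ≫ r = k ≫ p) :
    ∃ (G : Scheme.{u}) (γ : U ⟶ G) (q₁ : G ⟶ W) (q₂ : G ⟶ Y), IsNoetherian G ∧ IsProper q₁ ∧
      (IsProper r → IsProper q₂) ∧ q₁ ≫ r = q₂ ≫ p ∧ γ ≫ q₁ = w ∧ γ ≫ q₂ = k ∧
      (∀ V : G.Opens, Function.Injective (γ.app V).hom) ∧ Dense (Set.range γ) ∧ IsLocImmersion γ ∧
      ∃ O : G.Opens, Set.range γ ⊆ (O : Set G) ∧ IsOpenImmersion (O.ι ≫ q₁) := by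
  haveI : IsNoetherian (pullback r p) := LocImmCommon.isNoetherian_of_locallyOfFiniteType (pullback.fst r p)
  let γ₀ := pullback.lift w k h
  haveI : IsNoetherian γ₀.image := LocImmCommon.isNoetherian_of_locallyOfFiniteType γ₀.imageι
  have h1 : γ₀.toImage ≫ γ₀.imageι ≫ pullback.fst r p = w := by rw [Scheme.Hom.toImage_imageι_assoc]; exact pullback.lift_fst _ _ _
  have h2 : γ₀.toImage ≫ γ₀.imageι ≫ pullback.snd r p = k := by rw [Scheme.Hom.toImage_imageι_assoc]; exact pullback.lift_snd _ _ _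
  have hinj := LocImmCommon.toImage_app_injective γ₀
  obtain ⟨hl, O, hO, hO'⟩ := exists_open_of_dominant γ₀.toImage (γ₀.imageι ≫ pullback.fst r p) (by rw [h1]; exact hw) hinj
  exact ⟨γ₀.image, γ₀.toImage, γ₀.imageι ≫ pullback.fst r p, γ₀.imageι ≫ pullback.snd r p, inferInstance, inferInstance,
    fun _ => inferInstance, by rw [Category.assoc, Category.assoc, pullback.condition], h1, h2, hinj,
    γ₀.toImage.denseRange, hl, O, hO, hO'⟩

/-- After an admissible blow-up a map to a proper scheme extends. -/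
theorem extend [IsNoetherian X] [IsNoetherian Z] (a : X ⟶ S) (b : Y ⟶ S) [IsProper b] (j : Z ⟶ X)
    (hj : IsLocImmersion j) (f : Z ⟶ Y) (h : j ≫ a = f ≫ b) :
    ∃ (𝓘 : X.IdealSheafData) (Xt : Scheme.{u}) (c : Xt ⟶ X) (e : Z ⟶ Xt) (f' : Xt ⟶ Y),
      BlowUp.IsBlowUp c 𝓘 ∧ Disjoint (𝓘.support : Set X) (Set.range (fun x => j x)) ∧
      e ≫ c = j ∧ e ≫ f' = f ∧ c ≫ a = f' ≫ b := by
  obtain ⟨G, γ, q₁, q₂, _, _, -, hq, h1, h2, -, hd, -, O, hO, _⟩ := exists_graph a b j f hj h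
  have hOd : Dense (O : Set G) := hd.mono hO
  haveI := isIso_morphismRestrict q₁ O hOd
  obtain ⟨𝓘, Xt, c, hc, had, g, hg⟩ :=
    Groth.Agent.S1274.result q₁ (O.ι ≫ q₁).opensRange (NoetherianSpace.isCompact _)
  have hjV : ∀ z, j z ∈ (O.ι ≫ q₁).opensRange := fun z =>
    ⟨⟨γ z, hO ⟨z, rfl⟩⟩, (congr($h1 z) : _)⟩
  have hjI : ∀ z, j z ∉ 𝓘.support := fun z hz => Set.disjoint_left.1 had.2 hz (hjV z)
  obtain ⟨e, he, -⟩ := exists_lift hc j hjI
  have hpre := preimage_opensRange q₁ O hOd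
  have heg : e ≫ g = γ := by
    have hr : Set.range (e ≫ g) ⊆ Set.range O.ι := by
      rintro _ ⟨z, rfl⟩
      rw [Scheme.Opens.range_ι, ← hpre]
      show q₁ ((e ≫ g) z) ∈ (O.ι ≫ q₁).opensRange
      rw [← Scheme.Hom.comp_apply, Category.assoc, hg, he]
      exact hjV z
    have hr' : Set.range γ ⊆ Set.range O.ι := by rw [Scheme.Opens.range_ι]; exact hO
    have : IsOpenImmersion.lift O.ι (e ≫ g) hr = IsOpenImmersion.lift O.ι γ hr' := by
      rw [← cancel_mono (O.ι ≫ q₁), IsOpenImmersion.lift_fac_assoc, IsOpenImmersion.lift_fac_assoc, Category.assoc, hg, he, h1]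
    rw [← IsOpenImmersion.lift_fac O.ι (e ≫ g) hr, this, IsOpenImmersion.lift_fac]
  refine ⟨𝓘, Xt, c, e, g ≫ q₂, hc, Set.disjoint_left.2 ?_, he, by rw [← Category.assoc, heg, h2],
    by rw [Category.assoc, ← hq, ← Category.assoc, hg]⟩
  rintro x hx ⟨z, rfl⟩
  exact hjI z hx

/-- Composite of admissible blow-ups. -/
theorem comp_blowUp {W' V : Scheme.{u}} [IsNoetherian V] [IsNoetherian W] {J : V.IdealSheafData} {q : W ⟶ V}
    (hq : BlowUp.IsBlowUp q J) (w : U ⟶ W) (hJ : Disjoint (J.support : Set V) (Set.range (w ≫ q)))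
    {I : W.IdealSheafData} {b : W' ⟶ W} (hb : BlowUp.IsBlowUp b I) (hI : Disjoint (I.support : Set W) (Set.range w)) :
    ∃ K : V.IdealSheafData, BlowUp.IsBlowUp (b ≫ q) K ∧ Disjoint (K.support : Set V) (Set.range (w ≫ q)) := by
  obtain ⟨K, -, hK, hKb⟩ := H11Strict.exists_isBlowUp_comp J (isFiniteTypeIdeal _) q hq I (isFiniteTypeIdeal _) b hb
  refine ⟨K, hKb, ?_⟩
  rw [hK]
  refine Set.disjoint_left.2 ?_
  rintro x (hx | ⟨y, hy, rfl⟩) ⟨u, hu⟩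
  · exact Set.disjoint_left.1 hJ hx ⟨u, hu⟩
  · have e : y = w u := eq_of_apply_eq hq hu.symm fun h => Set.disjoint_left.1 hJ h ⟨u, rfl⟩
    exact Set.disjoint_left.1 hI hy ⟨u, e.symm⟩

/-- Lifting a localizing immersion to a blow-up. -/
theorem isLocImmersion_lift {I : X.IdealSheafData} {b : W ⟶ X} (hb : BlowUp.IsBlowUp b I) (O : X.Opens)
    (hO : ∀ x ∈ O, x ∉ I.support) {γ : U ⟶ X} (hγ : IsLocImmersion γ) {e : U ⟶ W} (he : e ≫ b = γ)
    (hr : Set.range γ ⊆ (O : Set X)) : IsLocImmersion e := by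
  haveI : IsIso (b ∣_ O) := H29Blow.isIso_morphismRestrict hb O hO
  haveI : IsOpenImmersion ((b ⁻¹ᵁ O).ι ≫ b) := by rw [← morphismRestrict_ι]; infer_instance
  have hr' : Set.range e ⊆ Set.range (b ⁻¹ᵁ O).ι := by
    rintro _ ⟨u, rfl⟩
    rw [Scheme.Opens.range_ι]
    show b (e u) ∈ O
    rw [← Scheme.Hom.comp_apply, he]
    exact hr ⟨u, rfl⟩
  have h : IsLocImmersion (IsOpenImmersion.lift (b ⁻¹ᵁ O).ι e hr' ≫ (b ⁻¹ᵁ O).ι ≫ b) := by
    rw [IsOpenImmersion.lift_fac_assoc, he]; exact hγ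
  rw [← IsOpenImmersion.lift_fac (b ⁻¹ᵁ O).ι e hr']
  exact LocImB.isLocImmersion_comp (LocImB.isLocImmersion_of_comp_mono h) (LocImB.isLocImmersion_of_isOpenImmersion _)

theorem dense_range_lift {I : X.IdealSheafData} {b : W ⟶ X} (hb : BlowUp.IsBlowUp b I) {γ : U ⟶ X}
    (hd : Dense (Set.range γ)) (hI : ∀ u, γ u ∉ I.support) {e : U ⟶ W} (he : e ≫ b = γ) :
    Dense (Set.range e) := by
  refine (dense_preimage hb hd).mono ?_
  rintro y ⟨u, hu⟩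
  exact ⟨u, (eq_of_apply_eq hb (x := y) (y := e u) (hu.symm.trans (congr($he u)).symm)
    (fun h => hI u ((congr($he u) : b (e u) = γ u) ▸ h))).symm⟩

/-- Two proper targets get a common admissible blow-up in which the source is dense. -/
theorem join [IsNoetherian U] [IsNoetherian W] [IsNoetherian Y] (r : W ⟶ S) [IsProper r] (p : Y ⟶ S) [IsProper p]
    (w : U ⟶ W) (k : U ⟶ Y) (hw : IsLocImmersion w) (hk : IsLocImmersion k) (h : w ≫ r = k ≫ p) :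
    ∃ (W' : Scheme.{u}) (b : W' ⟶ W) (q : W' ⟶ Y) (I : W.IdealSheafData) (J : Y.IdealSheafData) (w' : U ⟶ W'),
      IsNoetherian W' ∧ IsLocImmersion w' ∧ Dense (Set.range w') ∧ w' ≫ b = w ∧ w' ≫ q = k ∧ b ≫ r = q ≫ p ∧
      BlowUp.IsBlowUp b I ∧ Disjoint (I.support : Set W) (Set.range w) ∧
      BlowUp.IsBlowUp q J ∧ Disjoint (J.support : Set Y) (Set.range k) := by
  obtain ⟨G, γ, q₁, q₂, _, _, hq₂, hq, h1, h2, hinj, hd, hγ, O₁, hO₁, _⟩ := exists_graph r p w k hw h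
  haveI := hq₂ inferInstance
  obtain ⟨-, O₂, hO₂, _⟩ := exists_open_of_dominant γ q₂ (by rw [h2]; exact hk) hinj
  let O := O₁ ⊓ O₂
  have hO : Set.range γ ⊆ (O : Set G) := fun y hy => ⟨hO₁ hy, hO₂ hy⟩
  haveI : IsOpenImmersion (O.ι ≫ q₁) := by
    rw [← G.homOfLE_ι (show O ≤ O₁ from inf_le_left), Category.assoc]; infer_instance
  haveI : IsOpenImmersion (O.ι ≫ q₂) := by
    rw [← G.homOfLE_ι (show O ≤ O₂ from inf_le_right), Category.assoc]; infer_instance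
  obtain ⟨W₁, b₁, I₁, J₁, _, hb₁, hI₁, hc₁, hJ₁⟩ := main q₁ O
  have hOI : ∀ x ∈ O, x ∉ I₁.support := fun x hx h => Set.disjoint_left.1 hI₁ h hx
  obtain ⟨w₁, hw₁, -⟩ := exists_lift hb₁ γ fun u => hOI _ (hO ⟨u, rfl⟩)
  have hw₁l := isLocImmersion_lift hb₁ O hOI hγ hw₁ hO
  have hw₁d := dense_range_lift hb₁ hd (fun u => hOI _ (hO ⟨u, rfl⟩)) hw₁
  let O' := b₁ ⁻¹ᵁ O
  haveI := isProper hb₁
  haveI : IsIso (b₁ ∣_ O) := H29Blow.isIso_morphismRestrict hb₁ O hOI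
  haveI : IsOpenImmersion (O'.ι ≫ b₁ ≫ q₂) := by
    rw [← Category.assoc, ← morphismRestrict_ι, Category.assoc]; infer_instance
  obtain ⟨W₂, b₂, I₂, J₂, _, hb₂, hI₂, hc₂, hJ₂⟩ := main (b₁ ≫ q₂) O'
  have hw₁O : ∀ u, w₁ u ∈ O' := fun u => by
    show b₁ (w₁ u) ∈ O
    rw [← Scheme.Hom.comp_apply, hw₁]
    exact hO ⟨u, rfl⟩
  have hOI' : ∀ x ∈ O', x ∉ I₂.support := fun x hx h => Set.disjoint_left.1 hI₂ h hx
  obtain ⟨w₂, hw₂, -⟩ := exists_lift hb₂ w₁ fun u => hOI' _ (hw₁O u)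
  have hw₁q : w₁ ≫ b₁ ≫ q₁ = w := by rw [← Category.assoc, hw₁, h1]
  have hw₁q₂ : w₁ ≫ b₁ ≫ q₂ = k := by rw [← Category.assoc, hw₁, h2]
  obtain ⟨K, hK, hKd⟩ := comp_blowUp hc₁ w₁ (Set.disjoint_left.2 fun x hx ⟨u, hu⟩ =>
      Set.disjoint_left.1 hJ₁ hx ⟨b₁ (w₁ u), hw₁O u, hu⟩) hb₂
    (Set.disjoint_left.2 fun x hx ⟨u, hu⟩ => hOI' _ (hu ▸ hw₁O u) hx)
  rw [hw₁q] at hKd
  refine ⟨W₂, b₂ ≫ b₁ ≫ q₁, b₂ ≫ b₁ ≫ q₂, K, J₂, w₂, inferInstance,
    isLocImmersion_lift hb₂ O' hOI' hw₁l hw₂ (fun _ ⟨u, hu⟩ => hu ▸ hw₁O u),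
    dense_range_lift hb₂ hw₁d (fun u => hOI' _ (hw₁O u)) hw₂, by rw [← Category.assoc, hw₂, hw₁q],
    by rw [← Category.assoc, hw₂, hw₁q₂], by simp only [Category.assoc, hq], hK, hKd, hc₂, ?_⟩
  refine Set.disjoint_left.2 fun x hx hx' => ?_
  obtain ⟨u, rfl⟩ := hx'
  exact Set.disjoint_left.1 hJ₂ hx ⟨w₁ u, hw₁O u, (congr($hw₁q₂ u) : _)⟩

end Groth.Agent.H17.LocImmBlow
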