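import Groth.Agent.H17.LocImmBlow.Join

/-!
# Many proper targets with a common admissible blow-up
-/

set_option autoImplicit false
set_option linter.style.haveILetI false

universe u

open CategoryTheory CategoryTheory.Limits AlgebraicGeometry

namespace Groth.Agent.H17.LocImmBlow

open LocImm

variable {S U : Scheme.{u}}

theorem many [IsNoetherian U] {n : ℕ} (i₀ : Fin n) (Y : Fin n → Scheme.{u}) [∀ i, IsNoetherian (Y i)]
    (p : ∀ i, Y i ⟶ S) [∀ i, IsProper (p i)] (gU : U ⟶ S) (k : ∀ i, U ⟶ Y i) (hk : ∀ i, IsLocImmersion (k i))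
    (hkp : ∀ i, k i ≫ p i = gU) :
    ∃ (W : Scheme.{u}) (r : W ⟶ S) (w : U ⟶ W) (q : ∀ i, W ⟶ Y i) (J : ∀ i, (Y i).IdealSheafData),
      IsNoetherian W ∧ IsProper r ∧ IsLocImmersion w ∧ Dense (Set.range w) ∧
      ∀ i, w ≫ q i = k i ∧ q i ≫ p i = r ∧ BlowUp.IsBlowUp (q i) (J i) ∧
        Disjoint ((J i).support : Set (Y i)) (Set.range (k i)) := by
  classical
  suffices h : ∀ s : Finset (Fin n), ∃ (W : Scheme.{u}) (r : W ⟶ S) (w : U ⟶ W),
      IsNoetherian W ∧ IsProper r ∧ IsLocImmersion w ∧ Dense (Set.range w) ∧ w ≫ r = gU ∧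
      ∀ i ∈ insert i₀ s, ∃ (q : W ⟶ Y i) (J : (Y i).IdealSheafData), w ≫ q = k i ∧ q ≫ p i = r ∧
        BlowUp.IsBlowUp q J ∧ Disjoint (J.support : Set (Y i)) (Set.range (k i)) by
    obtain ⟨W, r, w, hW, hr, hw, hd, -, hq⟩ := h Finset.univ
    choose q J h1 h2 h3 h4 using fun i => hq i (Finset.mem_insert_of_mem (Finset.mem_univ i))
    exact ⟨W, r, w, q, J, hW, hr, hw, hd, fun i => ⟨h1 i, h2 i, h3 i, h4 i⟩⟩
  intro s
  induction s using Finset.induction with
  | empty =>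
    obtain ⟨W, b, q, I, J, w, hW, hw, hd, -, hwq, -, -, -, hq, hqd⟩ :=
      join (p i₀) (p i₀) (k i₀) (k i₀) (hk i₀) (hk i₀) rfl
    haveI := isProper hq
    refine ⟨W, q ≫ p i₀, w, hW, inferInstance, hw, hd, by rw [← Category.assoc, hwq, hkp], fun i hi => ?_⟩
    obtain rfl : i = i₀ := by simpa using hi
    exact ⟨q, J, hwq, rfl, hq, hqd⟩
  | insert a s ha ih =>
    obtain ⟨W, r, w, _, _, hw, -, hwr, hold⟩ := ih
    obtain ⟨W', b, q, I, J, w', hW', hw', hd', hwb, hwq, hbq, hb, hbd, hq, hqd⟩ :=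
      join r (p a) w (k a) hw (hk a) (by rw [hwr, hkp])
    haveI := isProper hq
    refine ⟨W', q ≫ p a, w', hW', inferInstance, hw', hd', by rw [← Category.assoc, hwq, hkp], fun i hi => ?_⟩
    by_cases hia : i = a
    · subst hia
      exact ⟨q, J, hwq, rfl, hq, hqd⟩
    · have hi' : i ∈ insert i₀ s := by
        simp only [Finset.mem_insert] at hi ⊢
        tauto
      obtain ⟨q₀, J₀, h1, h2, h3, h4⟩ := hold i hi'
      obtain ⟨K, hK, hKd⟩ := comp_blowUp h3 w (by rw [h1]; exact h4) hb hbd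
      rw [h1] at hKd
      exact ⟨b ≫ q₀, K, by rw [← Category.assoc, hwb, h1], by rw [Category.assoc, h2, hbq], hK, hKd⟩

end Groth.Agent.H17.LocImmBlow
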